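import Groth.Prelude.Def_SuppFam
import Groth.Agent.SiteBase.ClosedEmb
import Groth.Agent.SiteBase.DerivedExt
import Groth.Agent.SiteBase.DerivedComp
import Groth.Agent.SiteBase.Rpush

/-!
# Local cohomology sheaves are sheafified cohomology presheaves with supports
-/

set_option autoImplicit false
set_option linter.style.haveILetI false

universe u

open CategoryTheory CategoryTheory.Limits Opposite TopologicalSpace TopCat Topology

noncomputable section

namespace Groth.Agent.SuppFamLib

variable {X : TopCat.{u}}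

local notation "JX" => Opens.grothendieckTopology X

theorem res_res (G : CohTop.Ab X) {A B C : Opens X} (i : B ≤ A) (j : C ≤ B) (s : G.obj.obj (op A)) :
    G.obj.map (homOfLE j).op (G.obj.map (homOfLE i).op s) = G.obj.map (homOfLE (j.trans i)).op s := by
  rw [← ConcreteCategory.comp_apply, ← G.obj.map_comp]
  rfl

theorem res_eq_zero_iff (G : CohTop.Ab X) {A B : Opens X} (h1 : B ≤ A) (h2 : A ≤ B) (s : G.obj.obj (op A)) :
    G.obj.map (homOfLE h1).op s = 0 ↔ s = 0 := by
  refine ⟨fun h => ?_, fun h => by rw [h, map_zero]⟩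
  have := congrArg (fun t => G.obj.map (homOfLE h2).op t) h
  simp only [res_res, map_zero] at this
  refine Eq.trans ?_ this
  rw [show (homOfLE (h2.trans h1)).op = 𝟙 (op A) from rfl, G.obj.map_id]
  rfl

/-- A section is killed by `F ⟶ j_* j⁻¹ F` iff it vanishes on `U`. -/
theorem unit_app_eq_zero_iff (U : Opens X) (G : CohTop.Ab X) (V : Opens X) (s : G.obj.obj (op V)) :
    (((TopCat.Sheaf.pullbackPushforwardAdjunction AddCommGrpCat.{u} (CohCx.incl U)).unit.app G).hom.app (op V)).hom s = 0 ↔
      G.obj.map (homOfLE (inf_le_right : U ⊓ V ≤ V)).op s = 0 := by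
  let η := (TopCat.Sheaf.pullbackPushforwardAdjunction AddCommGrpCat.{u} (CohCx.incl U)).unit.app G
  let H := (TopCat.Sheaf.pullback AddCommGrpCat.{u} (CohCx.incl U)).obj G
  have nat : (η.hom.app (op (U ⊓ V))).hom (G.obj.map (homOfLE (inf_le_right : U ⊓ V ≤ V)).op s) =
      ((TopCat.Sheaf.pushforward AddCommGrpCat.{u} (CohCx.incl U)).obj H).obj.map
        (homOfLE (inf_le_right : U ⊓ V ≤ V)).op ((η.hom.app (op V)).hom s) :=
    ConcreteCategory.congr_hom (η.hom.naturality (homOfLE (inf_le_right : U ⊓ V ≤ V)).op) s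
  constructor
  · intro hz
    refine TopCat.Presheaf.section_ext G (U ⊓ V) _ _ fun y hy => ?_
    rw [map_zero]
    haveI : IsIso ((TopCat.Presheaf.stalkFunctor AddCommGrpCat.{u} (CohCx.incl U ⟨y, hy.1⟩)).map η.hom) :=
      ClosedEmb.isIso_stalk_unit (U.isOpenEmbedding.isInducing : IsInducing (CohCx.incl U)) G ⟨y, hy.1⟩
    apply ((AddCommGrpCat.mono_iff_injective _).1 (inferInstance : Mono ((TopCat.Presheaf.stalkFunctor AddCommGrpCat.{u} (CohCx.incl U ⟨y, hy.1⟩)).map η.hom)))
    refine Eq.trans ?_ (map_zero _).symm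
    refine (TopCat.Presheaf.stalkFunctor_map_germ_apply (U ⊓ V) y hy η.hom _).trans ?_
    refine (congrArg _ (nat.trans ((congrArg _ (show (η.hom.app (op V)).hom s = 0 from hz)).trans (map_zero _)))).trans (map_zero _)
  · intro hz
    rw [hz, map_zero] at nat
    exact (res_eq_zero_iff H
      (show (Opens.map (CohCx.incl U)).obj (U ⊓ V) ≤ (Opens.map (CohCx.incl U)).obj V from fun y hy => hy.2)
      (fun y hy => ⟨y.2, hy⟩) _).1 nat.symm

/-- Sections of a kernel. -/
theorem exists_kernel_section_iff {A B : CohTop.Ab X} (f : A ⟶ B) (V : Opens X) (s : A.obj.obj (op V)) :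
    (∃ t : (kernel f).obj.obj (op V), ((kernel.ι f).hom.app (op V)).hom t = s) ↔ (f.hom.app (op V)).hom s = 0 := by
  constructor
  · rintro ⟨t, rfl⟩
    have h := congrArg (fun a => (a.hom.app (op V)).hom t) (kernel.condition f)
    exact h
  · intro h
    have hφ : CohFree.ofSect JX V A s ≫ f = 0 := by
      apply (CohFree.homEquivSect JX V B).injective
      rw [map_zero, CohFree.homEquivSect_apply]
      refine Eq.trans ?_ h
      exact congrArg (fun t => (f.hom.app (op V)).hom t) (CohFree.evalGen_ofSect JX V A s)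
    refine ⟨CohFree.evalGen JX V _ (kernel.lift f _ hφ), ?_⟩
    refine Eq.trans ?_ (CohFree.evalGen_ofSect JX V A s)
    exact congrArg (CohFree.evalGen JX V A) (kernel.lift_ι f _ hφ)

theorem kernel_ι_injective {A B : CohTop.Ab X} (f : A ⟶ B) (V : Opens X) :
    Function.Injective ((kernel.ι f).hom.app (op V)).hom := by
  intro a b hab
  apply (CohFree.homEquivSect JX V (kernel f)).symm.injective
  rw [← cancel_mono (kernel.ι f)]
  apply (CohFree.homEquivSect JX V A).injective
  simp only [CohFree.homEquivSect_apply, CohFree.homEquivSect_symm_apply]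
  refine Eq.trans ?_ (hab.trans ?_)
  · exact congrArg (fun t => ((kernel.ι f).hom.app (op V)).hom t) (CohFree.evalGen_ofSect JX V _ a)
  · exact congrArg (fun t => ((kernel.ι f).hom.app (op V)).hom t) (CohFree.evalGen_ofSect JX V _ b).symm

variable {W V : Opens X} (h : W ≤ V)

/-- The free sheaves with supports, as a functor of the open. -/
def P : Opens X ⥤ CohTop.Ab X where
  obj U := LocCohZ.zq (inf_le_inf_right U h)
  map {A B} f := LocCohZ.zqMap (inf_le_inf_right B h) (inf_le_inf_right A h)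
    (inf_le_inf_left W (leOfHom f)) (inf_le_inf_left V (leOfHom f))
  map_id A := SuppFam.zqMap_id _
  map_comp f g := (SuppFam.zqMap_comp _ _ _ _ _ _ _).symm

theorem img_map (U : Opens X) :
    V.isOpenEmbedding.isOpenMap.functor.obj ((Opens.map (CohCx.incl V)).obj U) = V ⊓ U := by
  ext y
  constructor
  · rintro ⟨z, hz, rfl⟩
    exact ⟨z.2, hz⟩
  · rintro ⟨h1, h2⟩
    exact ⟨⟨y, h1⟩, h2, rfl⟩

/-- The sections of `Γ_Z F` inside those of `F`. -/
def incl0 (F : CohTop.Ab X) (U : Opens X) :
    ((SuppFam.sectSuppLC h).obj F).obj.obj (op U) →+ F.obj.obj (op (V ⊓ U)) :=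
  (F.obj.map (homOfLE (img_map U).ge).op).hom.comp
    ((kernel.ι ((TopCat.Sheaf.pullbackPushforwardAdjunction AddCommGrpCat.{u} (CohCx.incl (SuppFam.inOpen V W))).unit.app
      ((CohTop.restrFunctor V).obj F))).hom.app (op ((Opens.map (CohCx.incl V)).obj U))).hom

theorem incl0_injective (F : CohTop.Ab X) (U : Opens X) : Function.Injective (incl0 h F U) := by
  intro a b hab
  apply kernel_ι_injective _ _
  rw [← sub_eq_zero]
  refine (res_eq_zero_iff F (img_map U).ge (img_map U).le _).1 ?_
  refine (map_sub (F.obj.map (homOfLE (img_map U).ge).op).hom _ _).trans (sub_eq_zero.2 hab)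

theorem range_incl0 (F : CohTop.Ab X) (U : Opens X) (s : F.obj.obj (op (V ⊓ U))) :
    (∃ t, incl0 h F U t = s) ↔ F.obj.map (homOfLE (inf_le_inf_right U h)).op s = 0 := by
  have key : ∀ s' : F.obj.obj (op (V.isOpenEmbedding.isOpenMap.functor.obj ((Opens.map (CohCx.incl V)).obj U))),
      (∃ t, ((kernel.ι ((TopCat.Sheaf.pullbackPushforwardAdjunction AddCommGrpCat.{u} (CohCx.incl (SuppFam.inOpen V W))).unit.app
        ((CohTop.restrFunctor V).obj F))).hom.app (op ((Opens.map (CohCx.incl V)).obj U))).hom t = s') ↔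
      F.obj.map (homOfLE ((inf_le_inf_right U h).trans (img_map U).ge)).op s' = 0 := by
    intro s'
    refine (exists_kernel_section_iff ((TopCat.Sheaf.pullbackPushforwardAdjunction AddCommGrpCat.{u} (CohCx.incl (SuppFam.inOpen V W))).unit.app
      ((CohTop.restrFunctor V).obj F)) ((Opens.map (CohCx.incl V)).obj U) s').trans ((unit_app_eq_zero_iff (SuppFam.inOpen V W) ((CohTop.restrFunctor V).obj F) _ s').trans ?_)
    have hle : W ⊓ U ≤ V.isOpenEmbedding.isOpenMap.functor.obj
        (SuppFam.inOpen V W ⊓ (Opens.map (CohCx.incl V)).obj U) := fun y hy => ⟨⟨y, h hy.1⟩, hy, rfl⟩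
    have hge : V.isOpenEmbedding.isOpenMap.functor.obj
        (SuppFam.inOpen V W ⊓ (Opens.map (CohCx.incl V)).obj U) ≤ W ⊓ U := by
      rintro _ ⟨z, hz, rfl⟩
      exact hz
    refine (res_eq_zero_iff F hle hge _).symm.trans (Iff.of_eq (congrArg (fun z => z = 0) ?_))
    exact res_res F (V.isOpenEmbedding.isOpenMap.functor.monotone inf_le_right) hle s'
  constructor
  · rintro ⟨t, rfl⟩
    refine Eq.trans ?_ ((key _).1 ⟨t, rfl⟩)
    exact res_res F _ _ _
  · intro hs
    obtain ⟨t, ht⟩ := (key (F.obj.map (homOfLE (img_map U).le).op s)).2 (by rw [res_res]; exact hs)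
    refine ⟨t, (congrArg (fun z => F.obj.map (homOfLE (img_map U).ge).op z) ht).trans ?_⟩
    rw [res_res]
    exact ConcreteCategory.congr_hom (F.obj.map_id (op (V ⊓ U))) s

theorem incl0_res (F : CohTop.Ab X) {A B : Opens X} (f : A ⟶ B)
    (t : ((SuppFam.sectSuppLC h).obj F).obj.obj (op B)) :
    incl0 h F A (((SuppFam.sectSuppLC h).obj F).obj.map f.op t) =
      F.obj.map (homOfLE (inf_le_inf_left V (leOfHom f))).op (incl0 h F B t) := by
  let ι := kernel.ι ((TopCat.Sheaf.pullbackPushforwardAdjunction AddCommGrpCat.{u} (CohCx.incl (SuppFam.inOpen V W))).unit.app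
      ((CohTop.restrFunctor V).obj F))
  have hn := ConcreteCategory.congr_hom (ι.hom.naturality ((Opens.map (CohCx.incl V)).map f).op) t
  refine (congrArg (fun z => F.obj.map (homOfLE (img_map A).ge).op z) hn).trans ?_
  show F.obj.map _ (F.obj.map _ ((ι.hom.app _).hom t)) = F.obj.map _ (F.obj.map _ ((ι.hom.app _).hom t))
  rw [← ConcreteCategory.comp_apply, ← F.obj.map_comp, ← ConcreteCategory.comp_apply, ← F.obj.map_comp]
  rfl

theorem incl0_map {F G : CohTop.Ab X} (g : F ⟶ G) (U : Opens X)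
    (t : ((SuppFam.sectSuppLC h).obj F).obj.obj (op U)) :
    incl0 h G U ((((SuppFam.sectSuppLC h).map g).hom.app (op U)).hom t) =
      (g.hom.app (op (V ⊓ U))).hom (incl0 h F U t) := by
  let ι := fun E : CohTop.Ab X => kernel.ι ((TopCat.Sheaf.pullbackPushforwardAdjunction AddCommGrpCat.{u} (CohCx.incl (SuppFam.inOpen V W))).unit.app
      ((CohTop.restrFunctor V).obj E))
  have hk : (LocCohZ.sectSuppF (SuppFam.inOpen V W)).map ((CohTop.restrFunctor V).map g) ≫ ι G =
      ι F ≫ (CohTop.restrFunctor V).map g := kernel.lift_ι _ _ _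
  have hn := congrArg (fun a => (a.hom.app (op ((Opens.map (CohCx.incl V)).obj U))).hom t) hk
  refine (congrArg (fun z => G.obj.map (homOfLE (img_map U).ge).op z) hn).trans ?_
  exact (ConcreteCategory.congr_hom (g.hom.naturality (homOfLE (img_map U).ge).op) _).symm

/-- A morphism out of `ℤ_{V∩U}/ℤ_{W∩U}` as a section. -/
def evq (F : CohTop.Ab X) (U : Opens X) : ((P h).obj U ⟶ F) →+ F.obj.obj (op (V ⊓ U)) :=
  (CohFree.evalGen JX (V ⊓ U) F).comp (Preadditive.leftComp F (cokernel.π _))

theorem evq_injective (F : CohTop.Ab X) (U : Opens X) : Function.Injective (evq h F U) := by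
  intro a b hab
  apply coequalizer.hom_ext
  exact (CohFree.homEquivSect JX (V ⊓ U) F).injective hab

theorem range_evq (F : CohTop.Ab X) (U : Opens X) (s : F.obj.obj (op (V ⊓ U))) :
    (∃ φ, evq h F U φ = s) ↔ F.obj.map (homOfLE (inf_le_inf_right U h)).op s = 0 := by
  constructor
  · rintro ⟨φ, rfl⟩
    refine (CohFree.evalGen_freeSheafMap_comp JX (homOfLE (inf_le_inf_right U h)) F (cokernel.π _ ≫ φ)).symm.trans ?_
    rw [cokernel.condition_assoc, zero_comp, map_zero]
  · intro hs
    have hz : CohCx.freeSheafMap JX (homOfLE (inf_le_inf_right U h)) ≫ CohFree.ofSect JX (V ⊓ U) F s = 0 := by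
      apply (CohFree.homEquivSect JX (W ⊓ U) F).injective
      rw [map_zero, CohFree.homEquivSect_apply, CohFree.evalGen_freeSheafMap_comp, CohFree.evalGen_ofSect]
      exact hs
    refine ⟨cokernel.desc _ _ hz, ?_⟩
    refine (congrArg (CohFree.evalGen JX (V ⊓ U) F) (cokernel.π_desc _ _ hz)).trans ?_
    exact CohFree.evalGen_ofSect JX _ F s

theorem exists_eq (F : CohTop.Ab X) (U : Opens X) (φ : (P h).obj U ⟶ F) :
    ∃ t, incl0 h F U t = evq h F U φ :=
  (range_incl0 h F U _).2 ((range_evq h F U _).1 ⟨φ, rfl⟩)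

/-- The presentation of sections with supports. -/
def σ (F : CohTop.Ab X) (U : Opens X) :
    ((P h).obj U ⟶ F) ≃+ ((SuppFam.sectSuppLC h).obj F).obj.obj (op U) :=
  AddEquiv.ofBijective
    (AddMonoidHom.mk' (fun φ => (exists_eq h F U φ).choose) fun a b => incl0_injective h F U
      ((exists_eq h F U (a + b)).choose_spec.trans ((map_add _ a b).trans (Eq.trans
        (congrArg₂ (· + ·) (exists_eq h F U a).choose_spec.symm (exists_eq h F U b).choose_spec.symm)
        (map_add _ _ _).symm))))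
    ⟨fun a b hab => evq_injective h F U (by
      rw [← (exists_eq h F U a).choose_spec, ← (exists_eq h F U b).choose_spec]
      exact congrArg (incl0 h F U) hab),
    fun t => by
      obtain ⟨φ, hφ⟩ := (range_evq h F U _).2 ((range_incl0 h F U _).1 ⟨t, rfl⟩)
      exact ⟨φ, incl0_injective h F U ((exists_eq h F U φ).choose_spec.trans hφ)⟩⟩

theorem incl0_σ (F : CohTop.Ab X) (U : Opens X) (φ : (P h).obj U ⟶ F) :
    incl0 h F U (σ h F U φ) = evq h F U φ :=
  (exists_eq h F U φ).choose_spec

/-- `Γ_Z` as a presheaf valued functor is represented by the `ℤ_{V∩U}/ℤ_{W∩U}`. -/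
def pres : SiteBase.HomPres (P h) (SuppFam.sectSuppLC h ⋙ sheafToPresheaf JX AddCommGrpCat.{u}) where
  σ F U := σ h F U
  σ_comp {F G} U φ g := incl0_injective h G U (by
    refine (incl0_σ h G U _).trans ?_
    refine Eq.trans ?_ (incl0_map h g U _).symm
    rw [incl0_σ]
    rfl)
  σ_map {F A B} f φ := incl0_injective h F B (by
    refine (incl0_σ h F B _).trans ?_
    refine Eq.trans ?_ (incl0_res h F f _).symm
    rw [incl0_σ]
    refine Eq.trans ?_ (CohFree.evalGen_freeSheafMap_comp JX (homOfLE (inf_le_inf_left V (leOfHom f))) F (cokernel.π _ ≫ φ))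
    show CohFree.evalGen JX (V ⊓ B) F (cokernel.π _ ≫ LocCohZ.zqMap (inf_le_inf_right A h) (inf_le_inf_right B h) (inf_le_inf_left W (leOfHom f)) (inf_le_inf_left V (leOfHom f)) ≫ φ) = _
    rw [LocCohZ.zqMap, cokernel.π_desc_assoc, Category.assoc])

instance : (sheafToPresheaf JX AddCommGrpCat.{u}).Additive where

instance : (presheafToSheaf JX AddCommGrpCat.{u}).Additive := (sheafificationAdjunction JX AddCommGrpCat.{u}).left_adjoint_additive

/-- Sheafifying the underlying presheaf changes nothing. -/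
def sheafifyIso : SuppFam.sectSuppLC h ≅
    (SuppFam.sectSuppLC h ⋙ sheafToPresheaf JX AddCommGrpCat.{u}) ⋙ presheafToSheaf JX AddCommGrpCat.{u} :=
  (Functor.rightUnitor _).symm ≪≫ Functor.isoWhiskerLeft _ (asIso (sheafificationAdjunction JX AddCommGrpCat.{u}).counit).symm ≪≫
    (Functor.associator _ _ _).symm

/-- The Ext presheaf is the presheaf of cohomology with supports. -/
def extPshIso (F : CohTop.Ab X) (q : ℕ) :
    (SiteBase.HomPres.extPsh (P h) q).obj F ≅ SuppFam.HZpre F q h :=
  NatIso.ofComponents (fun U => Iso.refl _) (fun {U U'} g => by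
    refine (Category.comp_id _).trans (Eq.trans ?_ (Category.id_comp _).symm)
    rfl)

theorem nonempty_HZshLC_iso (F : CohTop.Ab X) (q : ℕ) :
    Nonempty ((SuppFam.HZshLC h q).obj F ≅ (presheafToSheaf JX AddCommGrpCat.{u}).obj (SuppFam.HZpre F q h)) :=
  ⟨((SiteBase.rightDerivedCongr (sheafifyIso h) q).app F) ≪≫
    (SiteBase.rightDerivedCompIso (SuppFam.sectSuppLC h ⋙ sheafToPresheaf JX AddCommGrpCat.{u}) (presheafToSheaf JX AddCommGrpCat.{u}) q).app F ≪≫
    (presheafToSheaf JX AddCommGrpCat.{u}).mapIso ((((pres h).rightDerivedIso q).app F) ≪≫ extPshIso h F q)⟩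

end Groth.Agent.SuppFamLib

end
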