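import Groth.Agent.SuppFamLib.Exact
import Groth.Agent.QCoh.Submod
import Groth.Agent.QCoh.RpushAbGod

/-!
# Quasi-coherence of the local cohomology sheaves of a locally closed subset
-/

set_option autoImplicit false
set_option linter.style.haveILetI false
set_option backward.isDefEq.respectTransparency false
set_option backward.isDefEq.respectTransparency.types false

universe u

open CategoryTheory CategoryTheory.Limits AlgebraicGeometry TopologicalSpace Opposite

noncomputable section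

namespace Groth.Agent.SuppFamLib

open Groth.Agent.QCoh

variable {X : Scheme.{u}} {W V : X.Opens} (h : W ≤ V)

/-- The direct image of the restriction to `V`. -/
abbrev pV (V : X.Opens) (M : X.Modules) : X.Modules :=
  (Scheme.Modules.pushforward V.ι).obj (M.restrict V.ι)

theorem img_pre (V U : X.Opens) : V.ι ''ᵁ (V.ι ⁻¹ᵁ U) = V ⊓ U := by
  rw [Scheme.Hom.image_preimage_eq_opensRange_inf, Scheme.Opens.opensRange_ι]

/-- Sections of the direct image of the restriction to `V`. -/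
def secV (V : X.Opens) (M : X.Modules) (U : X.Opens) : Γ(pV V M, U) →+ Γ(M, V ⊓ U) :=
  AddMonoidHom.mk' (fun s => rs M (img_pre V U).ge (show Γ(M, V.ι ''ᵁ (V.ι ⁻¹ᵁ U)) from s))
    (fun _ _ => rs_add _ _ _)

theorem secV_bijective (V : X.Opens) (M : X.Modules) (U : X.Opens) : Function.Bijective (secV V M U) := by
  refine ⟨fun a b hab => ?_, fun t => ⟨rs M (img_pre V U).le t, ?_⟩⟩
  · have := congrArg (rs M (img_pre V U).le) hab
    simp only [secV, AddMonoidHom.mk'_apply, rs_rs] at this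
    exact (rs_self le_rfl _).symm.trans (this.trans (rs_self le_rfl _))
  · simp only [secV, AddMonoidHom.mk'_apply, rs_rs]
    exact rs_self le_rfl _

theorem secV_smul (V : X.Opens) (M : X.Modules) (U : X.Opens) (r : Γ(X, U)) (s : Γ(pV V M, U)) :
    secV V M U (r • s) = rf X (inf_le_right : V ⊓ U ≤ U) r • secV V M U s := by
  have hle : V.ι ''ᵁ (V.ι ⁻¹ᵁ U) ≤ U := (img_pre V U).le.trans inf_le_right
  have key : (show Γ(M, V.ι ''ᵁ (V.ι ⁻¹ᵁ U)) from r • s) =
      rf X hle r • (show Γ(M, V.ι ''ᵁ (V.ι ⁻¹ᵁ U)) from s) := by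
    refine (congrArg (fun a : Γ(X, V.ι ''ᵁ (V.ι ⁻¹ᵁ U)) => a • (show Γ(M, V.ι ''ᵁ (V.ι ⁻¹ᵁ U)) from s))
      (?_ : (V.ι.appIso _).inv (V.ι.app U r) = _))
    simp only [Scheme.Opens.ι_app, Scheme.Opens.ι_appIso, Iso.refl_inv]
    rfl
  show rs M _ (show Γ(M, V.ι ''ᵁ (V.ι ⁻¹ᵁ U)) from r • s) = _
  rw [key, rs_smul, rf_rf]
  rfl

theorem secV_rs (V : X.Opens) (M : X.Modules) {U U' : X.Opens} (i : U' ≤ U) (s : Γ(pV V M, U)) :
    secV V M U' (rs (pV V M) i s) = rs M (inf_le_inf_left V i) (secV V M U s) := by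
  show rs M _ (rs M (V.ι.image_mono (V.ι.preimage_mono i)) (show Γ(M, V.ι ''ᵁ (V.ι ⁻¹ᵁ U)) from s)) = rs M _ (rs M _ _)
  rw [rs_rs, rs_rs]

/-- The sections of the direct image vanishing on `W`. -/
def sub (M : X.Modules) : SubMod (pV V M) where
  mem U :=
    { carrier := {s | rs M (inf_le_inf_right U h) (secV V M U s) = 0}
      add_mem' := fun {a b} ha hb => by
        simp only [Set.mem_setOf_eq] at ha hb ⊢
        rw [map_add, rs_add, ha, hb, add_zero]
      zero_mem' := by simp only [Set.mem_setOf_eq, map_zero, rs_zero]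
      smul_mem' := fun r s hs => by
        simp only [Set.mem_setOf_eq] at hs ⊢
        rw [secV_smul, rs_smul, hs, smul_zero] }
  map_mem {U U'} i {s} hs := by
    show rs M _ (secV V M U' (rs (pV V M) i s)) = 0
    rw [secV_rs, rs_rs, ← rs_rs (inf_le_inf_right U h) (inf_le_inf_left W i)]
    refine (congrArg _ hs).trans (rs_zero _)
  of_locally U s hs := by
    refine eq_zero_of_locally (M := M) (W ⊓ U) _ fun p hp => ?_
    obtain ⟨U', i, hpU', hU'⟩ := hs p hp.2
    refine ⟨W ⊓ U', homOfLE (inf_le_inf_left W i), ⟨hp.1, hpU'⟩, ?_⟩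
    change rs M _ (secV V M U' (rs (pV V M) i s)) = 0 at hU'
    rw [secV_rs, rs_rs] at hU'
    show rs M _ (rs M _ _) = 0
    rw [rs_rs]
    exact hU'

/-- The module of sections supported in `V ∖ W`. -/
abbrev gm (M : X.Modules) : X.Modules := (sub h M).toModules

/-- Its sections. -/
def sec (M : X.Modules) (U : X.Opens) : Γ(gm h M, U) →+ Γ(M, V ⊓ U) :=
  AddMonoidHom.mk' (fun s => secV V M U ((sub h M).ι.app U s)) (fun _ _ => by rw [map_add, map_add])

theorem sec_injective (M : X.Modules) (U : X.Opens) : Function.Injective (sec h M U) :=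
  fun _ _ hab => (sub h M).ι_app_injective U ((secV_bijective V M U).1 hab)

theorem sec_mem (M : X.Modules) (U : X.Opens) (s : Γ(gm h M, U)) :
    rs M (inf_le_inf_right U h) (sec h M U s) = 0 :=
  (sub h M).ι_app_mem U s

theorem exists_sec {M : X.Modules} {U : X.Opens} (t : Γ(M, V ⊓ U))
    (ht : rs M (inf_le_inf_right U h) t = 0) : ∃ s, sec h M U s = t := by
  obtain ⟨p, rfl⟩ := (secV_bijective V M U).2 t
  obtain ⟨s, rfl⟩ := (sub h M).exists_app_eq (U := U) (s := p) ht
  exact ⟨s, rfl⟩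

theorem sec_rs (M : X.Modules) {U U' : X.Opens} (i : U' ≤ U) (s : Γ(gm h M, U)) :
    sec h M U' (rs (gm h M) i s) = rs M (inf_le_inf_left V i) (sec h M U s) := by
  show secV V M U' ((sub h M).ι.app U' (rs (gm h M) i s)) = _
  rw [app_rs, secV_rs]
  rfl

theorem sec_smul (M : X.Modules) (U : X.Opens) (r : Γ(X, U)) (s : Γ(gm h M, U)) :
    sec h M U (r • s) = rf X (inf_le_right : V ⊓ U ≤ U) r • sec h M U s := by
  show secV V M U ((sub h M).ι.app U (r • s)) = _
  rw [Scheme.Modules.Hom.app_smul, secV_smul]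
  rfl

theorem secV_map {A B : X.Modules} (f : A ⟶ B) (U : X.Opens) (s : Γ(pV V A, U)) :
    secV V B U (((Scheme.Modules.pushforward V.ι).map ((Scheme.Modules.restrictFunctor V.ι).map f)).app U s) =
      f.app (V ⊓ U) (secV V A U s) := by
  show rs B _ (f.app (V.ι ''ᵁ (V.ι ⁻¹ᵁ U)) _) = f.app (V ⊓ U) (rs A _ _)
  rw [app_rs]

/-- Functoriality. -/
def gmMap {A B : X.Modules} (f : A ⟶ B) : gm h A ⟶ gm h B where
  val :=
    { app := fun U => ModuleCat.ofHom
        ((((Scheme.Modules.pushforward V.ι).map ((Scheme.Modules.restrictFunctor V.ι).map f)).val.app U).hom.restrict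
          (p := (sub h A).mem U.unop) (q := (sub h B).mem U.unop) (fun s hs => by
            show rs B _ (secV V B U.unop (((Scheme.Modules.pushforward V.ι).map ((Scheme.Modules.restrictFunctor V.ι).map f)).app U.unop s)) = 0
            rw [secV_map, ← app_rs]
            exact (congrArg _ hs).trans (map_zero _)))
      naturality := fun {U U'} i => by
        ext s
        exact Subtype.ext (PresheafOfModules.naturality_apply
          ((Scheme.Modules.pushforward V.ι).map ((Scheme.Modules.restrictFunctor V.ι).map f)).val i s.1) }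

theorem sec_map {A B : X.Modules} (f : A ⟶ B) (U : X.Opens) (s : Γ(gm h A, U)) :
    sec h B U ((gmMap h f).app U s) = f.app (V ⊓ U) (sec h A U s) :=
  secV_map f U ((sub h A).ι.app U s)

/-! ### Comparison with `Γ_Z` of the underlying abelian sheaf -/

local notation "GS" => SuppFam.sectSuppLC (X := X.toPresheafedSpace.carrier) h

theorem exists_secEq (M : X.Modules) (U : X.Opens) (s : Γ(gm h M, U)) :
    ∃ t, incl0 (X := X.toPresheafedSpace.carrier) h ((toAbFunctor X).obj M) U t = sec h M U s :=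
  (range_incl0 h _ U _).2 (sec_mem h M U s)

/-- The comparison on sections. -/
def cmpHom (M : X.Modules) (U : X.Opens) :
    Γ(gm h M, U) →+ ((GS).obj ((toAbFunctor X).obj M)).obj.obj (op U) :=
  AddMonoidHom.mk' (fun s => (exists_secEq h M U s).choose) fun a b =>
    incl0_injective (X := X.toPresheafedSpace.carrier) h _ U
      ((exists_secEq h M U (a + b)).choose_spec.trans ((map_add _ a b).trans (Eq.trans
        (congrArg₂ (· + ·) (exists_secEq h M U a).choose_spec.symm (exists_secEq h M U b).choose_spec.symm)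
        (map_add _ _ _).symm)))

theorem incl0_cmpHom (M : X.Modules) (U : X.Opens) (s : Γ(gm h M, U)) :
    incl0 (X := X.toPresheafedSpace.carrier) h ((toAbFunctor X).obj M) U (cmpHom h M U s) = sec h M U s :=
  (exists_secEq h M U s).choose_spec

theorem cmpHom_bijective (M : X.Modules) (U : X.Opens) : Function.Bijective (cmpHom h M U) := by
  refine ⟨fun a b hab => sec_injective h M U ?_, fun t => ?_⟩
  · rw [← incl0_cmpHom h M U a, ← incl0_cmpHom h M U b, hab]
  · obtain ⟨s, hs⟩ := exists_sec h (incl0 (X := X.toPresheafedSpace.carrier) h ((toAbFunctor X).obj M) U t)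
      ((range_incl0 h _ U _).1 ⟨t, rfl⟩)
    exact ⟨s, incl0_injective (X := X.toPresheafedSpace.carrier) h _ U ((incl0_cmpHom h M U s).trans hs)⟩

/-- The comparison. -/
def cmp (M : X.Modules) : (toAbFunctor X).obj (gm h M) ≅ (GS).obj ((toAbFunctor X).obj M) :=
  (fullyFaithfulSheafToPresheaf _ _).preimageIso (NatIso.ofComponents
    (fun U => (AddEquiv.ofBijective (cmpHom h M U.unop) (cmpHom_bijective h M U.unop)).toAddCommGrpIso)
    (fun {U U'} i => by
      ext s
      refine incl0_injective (X := X.toPresheafedSpace.carrier) h _ U'.unop ?_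
      refine (incl0_cmpHom h M U'.unop _).trans ?_
      refine (sec_rs h M (leOfHom i.unop) s).trans ?_
      refine Eq.trans ?_ (incl0_res (X := X.toPresheafedSpace.carrier) h ((toAbFunctor X).obj M) i.unop (cmpHom h M U.unop s)).symm
      exact congrArg _ (incl0_cmpHom h M U.unop s).symm))

theorem cmp_natural {A B : X.Modules} (f : A ⟶ B) :
    (toAbFunctor X).map (gmMap h f) ≫ (cmp h B).hom = (cmp h A).hom ≫ (GS).map ((toAbFunctor X).map f) := by
  apply CategoryTheory.Sheaf.hom_ext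
  ext U s
  refine incl0_injective (X := X.toPresheafedSpace.carrier) h _ U.unop ?_
  refine (incl0_cmpHom h B U.unop _).trans ?_
  refine (sec_map h f U.unop s).trans ?_
  refine Eq.trans ?_ (incl0_map (X := X.toPresheafedSpace.carrier) h ((toAbFunctor X).map f) U.unop (cmpHom h A U.unop s)).symm
  exact congrArg _ (incl0_cmpHom h A U.unop s).symm

/-! ### Quasi-coherence -/

theorem isCompact_inf (V : X.Opens) [QuasiCompact V.ι] {U : X.Opens} (hU : IsAffineOpen U) :
    IsCompact ((V ⊓ U : X.Opens) : Set X) := by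
  rw [← img_pre V U]
  exact (V.ι.isCompact_preimage hU.isCompact).image V.ι.continuous

variable [QuasiCompact V.ι] [QuasiCompact W.ι] {M : X.Modules}

theorem locRange_gm (hM : Coh.IsQCoh M) (k : ℕ) : LocRange (gmMap h (godπ M k)) := by
  refine ⟨fun U hU g y => ?_, fun U hU g z₀ a₀ ha₀ => ?_⟩
  · have hA : V ⊓ U ≤ U := inf_le_right
    have hB : W ⊓ U ≤ U := inf_le_right
    have hBA : W ⊓ U ≤ V ⊓ U := inf_le_inf_right U h
    have hAD : (V ⊓ U) ⊓ X.basicOpen g ≤ V ⊓ X.basicOpen g := le_inf (inf_le_left.trans inf_le_left) inf_le_right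
    have hDA : V ⊓ X.basicOpen g ≤ (V ⊓ U) ⊓ X.basicOpen g :=
      le_inf (inf_le_inf_left V (X.basicOpen_le g)) inf_le_right
    have hBD : (W ⊓ U) ⊓ X.basicOpen g ≤ (V ⊓ U) ⊓ X.basicOpen g := inf_le_inf_right _ hBA
    have hWD : (W ⊓ U) ⊓ X.basicOpen g ≤ W ⊓ X.basicOpen g := le_inf (inf_le_left.trans inf_le_left) inf_le_right
    have hDW : W ⊓ X.basicOpen g ≤ (W ⊓ U) ⊓ X.basicOpen g :=
      le_inf (inf_le_inf_left W (X.basicOpen_le g)) inf_le_right
    have hq := hU.isQuasiSeparated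
    let yA := rs (godQ M (k + 1)) hAD (sec h _ _ y)
    have hy0 : rs (godQ M (k + 1)) hBD yA = 0 := by
      rw [rs_rs, ← rs_rs (inf_le_inf_right (X.basicOpen g) h) hWD, sec_mem, rs_zero]
    obtain ⟨n, z, a, ha⟩ := (locInj_and_locSurj (h := g) hM hq (k + 1) (V ⊓ U) hA (isCompact_inf V hU)).2 yA
    replace ha : (godπ M k).app _ a = rs (godQ M (k + 1)) inf_le_left z -
      rf X (inf_le_left.trans hA) g ^ n • yA := ha
    obtain ⟨m, b, hb⟩ := (locInj_and_locSurj (h := g) hM hq (k + 1) (W ⊓ U) hB (isCompact_inf W hU)).1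
      (rs _ hBA z) ⟨rs _ hBD a, by
        show (godπ M k).app _ (rs _ hBD a) = _
        rw [app_rs, ha, rs_sub, rf_pow_smul_rs, hy0, smul_zero, sub_zero, rs_rs, rs_rs]⟩
    replace hb : (godπ M k).app _ b = rf X hB g ^ m • rs (godQ M (k + 1)) hBA z := hb
    obtain ⟨c, hc⟩ := exists_of_godπ_app_eq_zero k
      (rf X ((inf_le_left : (W ⊓ U) ⊓ X.basicOpen g ≤ W ⊓ U).trans hB) g ^ m • rs (God (godQ M k)) hBD a - rs (God (godQ M k)) inf_le_left b) (by
        rw [map_sub, Scheme.Modules.Hom.app_smul, app_rs, app_rs, ha, hb, rs_sub, rf_pow_smul_rs, hy0, smul_zero,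
          sub_zero, rf_pow_smul_rs, rs_rs, rs_rs, sub_self])
    obtain ⟨l, c', hc'⟩ := (locInj_and_locSurj (h := g) hM hq k (W ⊓ U) hB (isCompact_inf W hU)).2 c
    obtain ⟨e, -, he⟩ := exists_lift_bd M k (inf_le_left : (W ⊓ U) ⊓ X.basicOpen g ≤ W ⊓ U) hc'
    obtain ⟨bh, hbh⟩ := exists_rs_God hBA (rf X hB g ^ l • b + (toGod (godQ M k)).app _ (c' - e))
    obtain ⟨z', hz'⟩ := exists_sec h (rf X hA g ^ (l + m) • z - (godπ M k).app _ bh) (by
      rw [rs_sub, rf_pow_smul_rs, ← app_rs, hbh, map_add, Scheme.Modules.Hom.app_smul, godπ_toGod_app,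
        add_zero, hb, pow_add, mul_smul, sub_self])
    have hbD : rs (God (godQ M k)) (inf_le_left : (W ⊓ U) ⊓ X.basicOpen g ≤ W ⊓ U) (rs _ hBA bh) =
        rf X ((inf_le_left : (W ⊓ U) ⊓ X.basicOpen g ≤ W ⊓ U).trans hB) g ^ (l + m) • rs (God (godQ M k)) hBD a := by
      rw [hbh, rs_add, rf_pow_smul_rs, ← app_rs, rs_sub, he, sub_sub_cancel, Scheme.Modules.Hom.app_smul, hc,
        smul_sub, pow_add, mul_smul]
      abel
    let a₁ := rf X ((inf_le_left : (V ⊓ U) ⊓ X.basicOpen g ≤ V ⊓ U).trans hA) g ^ (l + m) • a -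
      rs (God (godQ M k)) (inf_le_left : (V ⊓ U) ⊓ X.basicOpen g ≤ V ⊓ U) bh
    obtain ⟨a', ha'⟩ := exists_sec h (U := X.basicOpen g) (rs (God (godQ M k)) hDA a₁) (by
      rw [rs_rs, ← rs_rs hBD hDW]
      have : rs (God (godQ M k)) hBD a₁ = 0 := by
        rw [rs_sub, rf_pow_smul_rs, ← hbD, rs_rs, rs_rs, sub_self]
      rw [this, rs_zero])
    refine ⟨l + m + n, z', a', sec_injective h _ _ ?_⟩
    rw [sec_map, ha', map_sub, sec_smul, sec_rs, hz', app_rs, map_sub, Scheme.Modules.Hom.app_smul, app_rs, ha]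
    simp only [rs_sub, rf_pow_smul_rs, rs_rs, yA, rs_self, smul_sub, map_pow, rf_rf]
    rw [← mul_smul, ← pow_add]
    simp only [rf, map_pow, ringMap_map]
    abel
  · have hA : V ⊓ U ≤ U := inf_le_right
    have hB : W ⊓ U ≤ U := inf_le_right
    have hBA : W ⊓ U ≤ V ⊓ U := inf_le_inf_right U h
    have hAD : (V ⊓ U) ⊓ X.basicOpen g ≤ V ⊓ X.basicOpen g := le_inf (inf_le_left.trans inf_le_left) inf_le_right
    have hBD : (W ⊓ U) ⊓ X.basicOpen g ≤ (V ⊓ U) ⊓ X.basicOpen g := inf_le_inf_right _ hBA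
    have hWD : (W ⊓ U) ⊓ X.basicOpen g ≤ W ⊓ X.basicOpen g := le_inf (inf_le_left.trans inf_le_left) inf_le_right
    have hq := hU.isQuasiSeparated
    let z := sec h _ _ z₀
    let a := rs (God (godQ M k)) hAD (sec h _ _ a₀)
    have hz0 : rs (godQ M (k + 1)) hBA z = 0 := sec_mem h _ _ z₀
    have ha0 : rs (God (godQ M k)) hBD a = 0 := by
      rw [rs_rs, ← rs_rs (inf_le_inf_right (X.basicOpen g) h) hWD, sec_mem, rs_zero]
    have ha : (godπ M k).app _ a = rs (godQ M (k + 1)) inf_le_left z := by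
      have := congrArg (sec h _ (X.basicOpen g)) ha₀
      rw [sec_map, sec_rs] at this
      rw [app_rs, this, rs_rs]
    obtain ⟨n, a', ha'⟩ := (locInj_and_locSurj (h := g) hM hq (k + 1) (V ⊓ U) hA (isCompact_inf V hU)).1 z
      ⟨a, ha⟩
    replace ha' : (godπ M k).app _ a' = rf X hA g ^ n • z := ha'
    obtain ⟨d, hd⟩ := exists_of_godπ_app_eq_zero k
      (rs (God (godQ M k)) (inf_le_left : (V ⊓ U) ⊓ X.basicOpen g ≤ V ⊓ U) a' -
        rf X (inf_le_left.trans hA) g ^ n • a) (by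
        rw [map_sub, Scheme.Modules.Hom.app_smul, app_rs, ha', ha, rf_pow_smul_rs, sub_self])
    obtain ⟨c, hc⟩ := exists_of_godπ_app_eq_zero k (rs (God (godQ M k)) hBA a') (by
      rw [app_rs, ha', rf_pow_smul_rs, hz0, smul_zero])
    have hcd : rs (godQ M k) (inf_le_left : (W ⊓ U) ⊓ X.basicOpen g ≤ W ⊓ U) c = rs _ hBD d := by
      refine toGod_app_injective _ _ ?_
      rw [app_rs, hc, app_rs, hd, rs_sub, rf_pow_smul_rs, ha0, smul_zero, sub_zero, rs_rs, rs_rs]
    obtain ⟨l, d', hd'⟩ := (locInj_and_locSurj (h := g) hM hq k (V ⊓ U) hA (isCompact_inf V hU)).2 d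
    obtain ⟨e, -, he⟩ := exists_lift_bd M k (inf_le_left : (V ⊓ U) ⊓ X.basicOpen g ≤ V ⊓ U) hd'
    obtain ⟨p, hp⟩ := (locInj_and_locSurj (h := g) hM hq k (W ⊓ U) hB (isCompact_inf W hU)).1
      (rf X hB g ^ l • c - rs _ hBA (d' - e)) (by
        have : rs (godQ M k) (inf_le_left : (W ⊓ U) ⊓ X.basicOpen g ≤ W ⊓ U) (rf X hB g ^ l • c - rs _ hBA (d' - e)) = 0 := by
          rw [rs_sub, rf_pow_smul_rs, hcd, rs_rs, ← rs_rs (inf_le_left : (V ⊓ U) ⊓ X.basicOpen g ≤ V ⊓ U) hBD,
            rs_sub (inf_le_left : (V ⊓ U) ⊓ X.basicOpen g ≤ V ⊓ U), he, sub_sub_cancel, rf_pow_smul_rs, sub_self]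
        rw [this]
        exact zero_mem _)
    obtain ⟨q, -, hq'⟩ := exists_lift_bd M k hBA hp
    obtain ⟨s, hs⟩ := exists_sec h (rf X hA g ^ (p + l) • a' -
        (toGod (godQ M k)).app _ (rf X hA g ^ p • (d' - e) + q)) (by
      rw [rs_sub, rf_pow_smul_rs, ← app_rs, rs_add, rf_pow_smul_rs, hq', smul_sub, map_add, map_sub,
        Scheme.Modules.Hom.app_smul, Scheme.Modules.Hom.app_smul, Scheme.Modules.Hom.app_smul, hc, pow_add, mul_smul]
      abel)
    refine ⟨p + l + n, s, sec_injective h _ _ ?_⟩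
    rw [sec_map, hs, sec_smul, map_sub, Scheme.Modules.Hom.app_smul, godπ_toGod_app, sub_zero, ha',
      ← mul_smul, ← pow_add]
    exact congrArg (· • z) (map_pow _ _ _).symm

theorem isQCoh_gm (hM : Coh.IsQCoh M) : Coh.IsQCoh (gm h M) := by
  refine isQCoh_of_sections (fun U hU g y => ?_) fun U hU g t ht => ?_
  · have hA : V ⊓ U ≤ U := inf_le_right
    have hB : W ⊓ U ≤ U := inf_le_right
    have hBA : W ⊓ U ≤ V ⊓ U := inf_le_inf_right U h
    have hAD : (V ⊓ U) ⊓ X.basicOpen g ≤ V ⊓ X.basicOpen g := le_inf (inf_le_left.trans inf_le_left) inf_le_right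
    have hDA : V ⊓ X.basicOpen g ≤ (V ⊓ U) ⊓ X.basicOpen g :=
      le_inf (inf_le_inf_left V (X.basicOpen_le g)) inf_le_right
    have hBD : (W ⊓ U) ⊓ X.basicOpen g ≤ (V ⊓ U) ⊓ X.basicOpen g := inf_le_inf_right _ hBA
    have hWD : (W ⊓ U) ⊓ X.basicOpen g ≤ W ⊓ X.basicOpen g := le_inf (inf_le_left.trans inf_le_left) inf_le_right
    have hq := hU.isQuasiSeparated
    obtain ⟨n, z, hz⟩ := (locInj_and_locSurj (h := g) hM hq 0 (V ⊓ U) hA (isCompact_inf V hU)).2
      (rs M hAD (sec h _ _ y))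
    replace hz := sub_eq_zero.1 ((Submodule.mem_bot _).1 hz)
    obtain ⟨m, hm⟩ := (locInj_and_locSurj (h := g) hM hq 0 (W ⊓ U) hB (isCompact_inf W hU)).1 (rs M hBA z) (by
      refine (Submodule.mem_bot _).2 ?_
      show rs M _ (rs M hBA z) = 0
      rw [rs_rs, ← rs_rs inf_le_left hBD]
      refine (congrArg _ hz).trans ?_
      rw [rf_pow_smul_rs, rs_rs, ← rs_rs (inf_le_inf_right (X.basicOpen g) h) hWD, sec_mem, rs_zero]
      exact smul_zero _)
    let zM : Γ(M, V ⊓ U) := z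
    obtain ⟨t, ht⟩ := exists_sec h (M := M) (rf X hA g ^ m • zM) (by
      rw [rf_pow_smul_rs]
      exact (Submodule.mem_bot _).1 hm)
    refine ⟨m + n, t, sec_injective h _ _ ?_⟩
    show sec h M _ (rs (gm h M) (X.basicOpen_le g) t) = sec h M _ (rf X (X.basicOpen_le g) g ^ (m + n) • y)
    rw [sec_rs, ht, sec_smul]
    have hz' : rs M hDA (rs M inf_le_left zM) = _ := congrArg (rs M hDA) hz
    rw [rs_rs, rf_pow_smul_rs, rs_rs, rs_self] at hz'
    rw [rf_pow_smul_rs, hz', ← mul_smul, ← pow_add]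
    simp only [rf, map_pow, ringMap_map]
    rfl
  · have hA : V ⊓ U ≤ U := inf_le_right
    have hAD : (V ⊓ U) ⊓ X.basicOpen g ≤ V ⊓ X.basicOpen g := le_inf (inf_le_left.trans inf_le_left) inf_le_right
    obtain ⟨n, hn⟩ := (locInj_and_locSurj (h := g) hM hU.isQuasiSeparated 0 (V ⊓ U) hA (isCompact_inf V hU)).1
      (sec h M U t) (by
      refine (Submodule.mem_bot _).2 ?_
      have ht' := congrArg (fun s => rs M hAD (sec h M _ s)) (show rs (gm h M) (X.basicOpen_le g) t = 0 from ht)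
      simp only [sec_rs, rs_rs, map_zero] at ht'
      exact ht')
    refine ⟨n, sec_injective h _ _ ?_⟩
    rw [sec_smul, map_zero, rf, map_pow]
    exact (Submodule.mem_bot _).1 hn

/-- The local cohomology sheaves of a quasi-coherent module are quasi-coherent. -/
theorem exists_isQCoh_iso (hM : Coh.IsQCoh M) (i : ℕ) :
    ∃ N : X.Modules, Coh.IsQCoh N ∧ Nonempty (Coh.toAb N ≅ (GS).rightDerived i |>.obj (Coh.toAb M)) := by
  haveI := preservesFiniteLimits_sectSuppLC (X := X.toPresheafedSpace.carrier) h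
  cases i with
  | zero => exact ⟨gm h M, isQCoh_gm h hM, ⟨cmp h M ≪≫ ((GS).rightDerivedZeroIsoSelf.app _).symm⟩⟩
  | succ q =>
    obtain ⟨e⟩ := QCoh.nonempty_tower_iso GS (fun n => (godSES M n).map (toAbFunctor X))
      (fun n => toAb_shortExact (godSES_shortExact M n)) (fun n => Iso.refl _)
      (fun n i => isZero_rightDerived_of_flasque (X := X.toPresheafedSpace.carrier) h _ (isFlasque_God _) i) q
    obtain ⟨e'⟩ := nonempty_toAb_cokernel (gmMap h (godπ M q))
    exact ⟨cokernel (gmMap h (godπ M q)), (locRange_gm h hM q).isQCoh,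
      ⟨e' ≪≫ cokernel.mapIso _ _ (cmp h _) (cmp h _) (cmp_natural h _) ≪≫ e.symm⟩⟩

end Groth.Agent.SuppFamLib

end
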