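import Groth.Agent.SuppFamLib.Derived
import Groth.Agent.QCoh.RpushGod
import Mathlib.CategoryTheory.Preadditive.LeftExact
import Mathlib.Topology.Sheaves.Flasque

/-!
# Exactness of sections with supports in a locally closed subset
-/

set_option autoImplicit false
set_option linter.style.haveILetI false

universe u

open CategoryTheory CategoryTheory.Limits Opposite TopologicalSpace TopCat Topology

noncomputable section

namespace Groth.Agent.SuppFamLib

variable {X : TopCat.{u}} {W V : Opens X} (h : W ≤ V)

local notation "JX" => Opens.grothendieckTopology X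

theorem app_injective_of_mono {A B : CohTop.Ab X} (f : A ⟶ B) [Mono f] (U : Opens X) :
    Function.Injective (f.hom.app (op U)).hom := by
  intro a b hab
  apply (CohFree.homEquivSect JX U A).symm.injective
  rw [← cancel_mono f]
  apply (CohFree.homEquivSect JX U B).injective
  simp only [CohFree.homEquivSect_apply, CohFree.homEquivSect_symm_apply]
  refine Eq.trans ?_ (hab.trans ?_)
  · exact congrArg (fun t => (f.hom.app (op U)).hom t) (CohFree.evalGen_ofSect JX U _ a)
  · exact congrArg (fun t => (f.hom.app (op U)).hom t) (CohFree.evalGen_ofSect JX U _ b).symm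

theorem exists_section_of_shortExact {S : ShortComplex (CohTop.Ab X)} (hS : S.ShortExact) (U : Opens X)
    (s : S.X₂.obj.obj (op U)) (hs : (S.g.hom.app (op U)).hom s = 0) :
    ∃ a, (S.f.hom.app (op U)).hom a = s :=
  haveI := hS.mono_f
  TopCat.Sheaf.sections_exact_of_left_exact (U := U) hS.exact hS.mono_f s hs

/-- `Γ_Z` of a short exact sequence is left exact. -/
theorem exact_map_and_mono {S : ShortComplex (CohTop.Ab X)} (hS : S.ShortExact) :
    (S.map (SuppFam.sectSuppLC h)).Exact ∧ Mono ((SuppFam.sectSuppLC h).map S.f) := by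
  haveI := hS.mono_f
  have hinj : ∀ U : Opens X, Function.Injective (((SuppFam.sectSuppLC h).map S.f).hom.app (op U)).hom := by
    intro U a b hab
    apply incl0_injective h
    apply app_injective_of_mono S.f (V ⊓ U)
    rw [← incl0_map, ← incl0_map]
    exact congrArg _ hab
  haveI hmono : Mono ((SuppFam.sectSuppLC h).map S.f) := by
    haveI : Mono ((SuppFam.sectSuppLC h).map S.f).hom := by
      haveI : ∀ U, Mono (((SuppFam.sectSuppLC h).map S.f).hom.app U) := fun U =>
        (AddCommGrpCat.mono_iff_injective _).2 (hinj U.unop)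
      exact NatTrans.mono_of_mono_app _
    exact (sheafToPresheaf JX AddCommGrpCat.{u}).mono_of_mono_map this
  refine ⟨?_, hmono⟩
  let G := SuppFam.sectSuppLC h
  let l : G.obj S.X₁ ⟶ kernel (G.map S.g) :=
    kernel.lift (G.map S.g) (G.map S.f) (by rw [← G.map_comp, S.zero, G.map_zero])
  have hl : l ≫ kernel.ι (G.map S.g) = G.map S.f := kernel.lift_ι _ _ _
  haveI : IsIso l := by
    haveI : IsIso l.hom := by
      haveI : ∀ U, IsIso (l.hom.app U) := by
        intro U
        refine (ConcreteCategory.isIso_iff_bijective _).2 ⟨fun a b hab => hinj U.unop ?_, fun t => ?_⟩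
        · rw [← hl]
          exact congrArg ((kernel.ι (G.map S.g)).hom.app U).hom hab
        · let s := incl0 h S.X₂ U.unop (((kernel.ι (G.map S.g)).hom.app U).hom t)
          have h0 : ((G.map S.g).hom.app U).hom (((kernel.ι (G.map S.g)).hom.app U).hom t) = 0 :=
            (exists_kernel_section_iff _ U.unop _).1 ⟨t, rfl⟩
          obtain ⟨a, ha⟩ := exists_section_of_shortExact hS (V ⊓ U.unop) s (by
            refine (incl0_map h S.g U.unop _).symm.trans ?_
            exact (congrArg (incl0 h S.X₃ U.unop) h0).trans (map_zero _))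
          have hz : S.X₁.obj.map (homOfLE (inf_le_inf_right U.unop h)).op a = 0 := by
            apply app_injective_of_mono S.f (W ⊓ U.unop)
            refine (ConcreteCategory.congr_hom (S.f.hom.naturality (homOfLE (inf_le_inf_right U.unop h)).op) a).trans ?_
            refine ((congrArg _ ha).trans ((range_incl0 h S.X₂ U.unop s).1 ⟨_, rfl⟩)).trans ?_
            exact (map_zero _).symm
          obtain ⟨a', ha'⟩ := (range_incl0 h S.X₁ U.unop a).2 hz
          refine ⟨a', kernel_ι_injective _ _ (incl0_injective h S.X₂ U.unop ?_)⟩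
          refine Eq.trans (congrArg (fun m => incl0 h S.X₂ U.unop ((m.hom.app U).hom a')) hl) ?_
          refine (incl0_map h S.f U.unop a').trans ?_
          rw [ha']
          exact ha
      exact NatIso.isIso_of_isIso_app _
    haveI : IsIso ((sheafToPresheaf JX AddCommGrpCat.{u}).map l) := by assumption
    exact isIso_of_reflects_iso l (sheafToPresheaf JX AddCommGrpCat.{u})
  refine ShortComplex.exact_of_f_is_kernel _ ?_
  exact IsKernel.isoKernel _ (G.map S.f) (kernelIsKernel (G.map S.g)) (asIso l) hl

theorem preservesFiniteLimits_sectSuppLC : PreservesFiniteLimits (SuppFam.sectSuppLC h) :=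
  (Functor.preservesFiniteLimits_iff_forall_exact_map_and_mono _).2 fun _ hS => exact_map_and_mono h hS

/-- Flasque sheaves are acyclic for `Γ_Z`. -/
theorem isZero_rightDerived_of_flasque (F : CohTop.Ab X) (hF : TopCat.Sheaf.IsFlasque F) (i : ℕ) :
    IsZero (((SuppFam.sectSuppLC h).rightDerived (i + 1)).obj F) := by
  haveI := preservesFiniteLimits_sectSuppLC h
  refine QCoh.isZero_rightDerived_of_class (SuppFam.sectSuppLC h) (fun G => TopCat.Sheaf.IsFlasque G)
    (fun {S} hS h₁ h₂ => ?_) (fun {S} hS h₁ _ => ?_) F hF i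
  · haveI := h₁
    haveI := h₂
    haveI := SiteBase.isFlasque_of_injective S.X₂
    exact TopCat.Sheaf.IsFlasque.of_shortExact_of_isFlasque₁₂ hS
  · haveI := h₁
    refine (TopCat.Sheaf.isLocallySurjective_iff_epi _).1
      ((TopCat.Presheaf.isLocallySurjective_iff _).2 fun U t y hy => ?_)
    refine ⟨U, le_rfl, ?_, hy⟩
    obtain ⟨b, hb⟩ := (AddCommGrpCat.epi_iff_surjective _).1
      (TopCat.Sheaf.IsFlasque.epi_of_shortExact (U := V ⊓ U) hS) (incl0 h S.X₃ U t)
    have hz : (S.g.hom.app (op (W ⊓ U))).hom (S.X₂.obj.map (homOfLE (inf_le_inf_right U h)).op b) = 0 := by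
      refine (ConcreteCategory.congr_hom (S.g.hom.naturality (homOfLE (inf_le_inf_right U h)).op) b).trans ?_
      exact (congrArg _ hb).trans ((range_incl0 h S.X₃ U _).1 ⟨t, rfl⟩)
    obtain ⟨a, ha⟩ := exists_section_of_shortExact hS _ _ hz
    obtain ⟨a', ha'⟩ := (AddCommGrpCat.epi_iff_surjective _).1 (h₁.epi (homOfLE (inf_le_inf_right U h)).op) a
    obtain ⟨s, hs⟩ := (range_incl0 h S.X₂ U (b - (S.f.hom.app (op (V ⊓ U))).hom a')).2 (by
      refine (map_sub (S.X₂.obj.map (homOfLE (inf_le_inf_right U h)).op).hom _ _).trans (sub_eq_zero.2 ?_)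
      refine ha.symm.trans (Eq.trans ?_ (ConcreteCategory.congr_hom (S.f.hom.naturality (homOfLE (inf_le_inf_right U h)).op) a'))
      exact congrArg _ ha'.symm)
    refine ⟨s, incl0_injective h S.X₃ U ?_⟩
    refine (incl0_map h S.g U s).trans ?_
    rw [hs]
    refine (map_sub (S.g.hom.app (op (V ⊓ U))).hom _ _).trans ?_
    have h0 : (S.g.hom.app (op (V ⊓ U))).hom ((S.f.hom.app (op (V ⊓ U))).hom a') = 0 :=
      congrArg (fun φ => (φ.hom.app (op (V ⊓ U))).hom a') S.zero
    rw [h0, sub_zero]
    refine hb.trans ?_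
    simp [TopCat.Presheaf.restrictOpen, TopCat.Presheaf.restrict]

end Groth.Agent.SuppFamLib

end
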